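import Mathlib.RingTheory.Trace.Basic
import Mathlib.RingTheory.Localization.NormTrace
import Mathlib.LinearAlgebra.Matrix.Charpoly.Coeff
import Mathlib.LinearAlgebra.Charpoly.ToMatrix

/-! # The involution of a free quadratic algebra with two invertible -/

set_option autoImplicit false

universe u

open Polynomial

namespace Groth.Agent.MiscTwoH99.DblCover

variable {A B : Type u} [CommRing A] [CommRing B] [Algebra A B]

/-- Cayley–Hamilton in rank two. -/
theorem exists_quadratic (b : Module.Basis (Fin 2) A B) (x : B) :
    ∃ n : A, x ^ 2 - algebraMap A B (Algebra.trace A B x) * x + algebraMap A B n = 0 := by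
  rcases subsingleton_or_nontrivial A with hA | hA
  · have := Module.subsingleton A B
    exact ⟨0, Subsingleton.elim _ _⟩
  have := Module.Free.of_basis b
  have := Module.Finite.of_basis b
  let M := LinearMap.toMatrix b b (Algebra.lmul A B x)
  refine ⟨M.det, ?_⟩
  have h1 : (Algebra.lmul A B x).charpoly = M.charpoly := (LinearMap.charpoly_toMatrix _ b).symm
  have h := Algebra.aeval_self_charpoly_lmul (R := A) x
  rw [h1, Matrix.charpoly_fin_two] at h
  simp only [map_add, map_sub, map_pow, map_mul, aeval_X, aeval_C] at h
  have ht : M.trace = Algebra.trace A B x := (Algebra.trace_eq_matrix_trace b x).symm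
  rw [ht] at h
  exact h

variable (h2 : IsUnit (2 : A)) (b : Module.Basis (Fin 2) A B)

include b in
theorem trace_one : Algebra.trace A B (algebraMap A B 1) = 2 := by
  rw [Algebra.trace_algebraMap_of_basis b]
  simp

include b in
theorem trace_algebraMap' (a : A) : Algebra.trace A B (algebraMap A B a) = 2 * a := by
  rw [Algebra.trace_algebraMap_of_basis b]
  simp [two_mul]

include b h2 in
theorem polar (x y : B) : 2 * (x * y) - algebraMap A B (Algebra.trace A B x) * y -
    algebraMap A B (Algebra.trace A B y) * x +
      algebraMap A B (Algebra.trace A B x * Algebra.trace A B y - Algebra.trace A B (x * y)) = 0 := by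
  have key : ∀ z : B, 2 * z ^ 2 - 2 * (algebraMap A B (Algebra.trace A B z) * z) +
      algebraMap A B (Algebra.trace A B z * Algebra.trace A B z - Algebra.trace A B (z ^ 2)) = 0 := fun z => by
    obtain ⟨n, hn⟩ := exists_quadratic b z
    have h := congrArg (Algebra.trace A B) hn
    rw [map_add, map_sub, map_zero, ← Algebra.smul_def, map_smul, smul_eq_mul, trace_algebraMap' b] at h
    have h3 : Algebra.trace A B z * Algebra.trace A B z - Algebra.trace A B (z ^ 2) = 2 * n := by
      linear_combination -h
    rw [h3, map_mul, map_ofNat]
    linear_combination 2 * hn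
  have h := key (x + y)
  have hx := key x
  have hy := key y
  rw [show (x + y) ^ 2 = x ^ 2 + y ^ 2 + 2 * (x * y) by ring, map_add] at h
  have e : Algebra.trace A B (x ^ 2 + y ^ 2 + 2 * (x * y)) =
      Algebra.trace A B (x ^ 2) + Algebra.trace A B (y ^ 2) + 2 * Algebra.trace A B (x * y) := by
    rw [map_add, map_add, two_mul, map_add, two_mul]
  rw [e] at h
  have h22 : IsUnit (2 : B) := by
    have h' := h2.map (algebraMap A B)
    rwa [map_ofNat] at h'
  refine h22.mul_left_cancel ?_
  simp only [map_add, map_sub, map_mul, map_ofNat] at h hx hy ⊢
  linear_combination h - hx - hy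

/-- The involution `x ↦ tr(x) - x`. -/
noncomputable def invol : B →+* B where
  toFun x := algebraMap A B (Algebra.trace A B x) - x
  map_one' := by
    rw [show (1 : B) = algebraMap A B 1 from (map_one _).symm, trace_one b, map_ofNat, map_one]
    norm_num
  map_mul' x y := by
    have h := polar h2 b x y
    simp only [map_sub, map_mul] at h
    linear_combination -h
  map_zero' := by simp
  map_add' x y := by
    simp only [map_add]
    abel

theorem invol_apply (x : B) : invol h2 b x = algebraMap A B (Algebra.trace A B x) - x := rfl

theorem invol_algebraMap (a : A) : invol h2 b (algebraMap A B a) = algebraMap A B a := by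
  rw [invol_apply, trace_algebraMap' b, map_mul, map_ofNat]
  ring

theorem invol_invol (x : B) : invol h2 b (invol h2 b x) = x := by
  rw [invol_apply h2 b x, map_sub, invol_algebraMap, invol_apply]
  ring

include h2 b in
theorem mem_range_of_fixed {x : B} (hx : invol h2 b x = x) : x ∈ Set.range (algebraMap A B) := by
  obtain ⟨c, hc⟩ := h2.exists_left_inv
  refine ⟨c * Algebra.trace A B x, ?_⟩
  rw [invol_apply, sub_eq_iff_eq_add] at hx
  rw [map_mul, hx, ← two_mul, ← mul_assoc, ← map_ofNat (algebraMap A B), ← map_mul, hc, map_one, one_mul]

include b in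
theorem algebraMap_injective : Function.Injective (algebraMap A B) := by
  have := Module.Free.of_basis b
  rcases subsingleton_or_nontrivial A with hA | hA
  · exact Function.injective_of_subsingleton _
  have : Nontrivial B := b.repr.toEquiv.nontrivial
  exact FaithfulSMul.algebraMap_injective A B

/-- The involution commutes with localization. -/
theorem invol_localization (M : Submonoid A) {A' B' : Type u} [CommRing A'] [CommRing B'] [Algebra A A']
    [Algebra A' B'] [Algebra B B'] [Algebra A B'] [IsScalarTower A A' B'] [IsScalarTower A B B']
    [IsLocalization M A'] [IsLocalization (Algebra.algebraMapSubmonoid B M) B']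
    (h2' : IsUnit (2 : A')) (b' : Module.Basis (Fin 2) A' B') (x : B) :
    invol h2' b' (algebraMap B B' x) = algebraMap B B' (invol h2 b x) := by
  have := Module.Free.of_basis b
  have := Module.Finite.of_basis b
  rw [invol_apply, invol_apply, map_sub, Algebra.trace_localization A M x, ← IsScalarTower.algebraMap_apply,
    ← IsScalarTower.algebraMap_apply]

end Groth.Agent.MiscTwoH99.DblCover
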