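import Groth.Agent.MiscTwoH99.DblCover.Good
import Groth.Prelude.Def_SGA1
import Mathlib.Topology.Sheaves.SheafCondition.UniqueGluing

/-! # The involution of a double cover and the quotient property -/

set_option autoImplicit false

universe u

open CategoryTheory CategoryTheory.Limits AlgebraicGeometry Opposite TopologicalSpace

namespace Groth.Agent.MiscTwoH99.DblCover

variable {X Y : Scheme.{u}} {f : X ⟶ Y} [IsAffineHom f] (h2 : IsUnit (2 : Γ(Y, ⊤)))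

theorem IsGood.preimage {U : Y.Opens} (h : IsGood f U) : IsAffineOpen (f ⁻¹ᵁ U) := h.affine.preimage f

/-- The involution over a good open, as a morphism into the cover. -/
noncomputable def invLoc {U : Y.Opens} (h : IsGood f U) : (f ⁻¹ᵁ U).toScheme ⟶ X :=
  h.preimage.isoSpec.hom ≫ Spec.map (invU h2 h) ≫ h.preimage.fromSpec

theorem homOfLE_invLoc {U V : Y.Opens} (h : IsGood f U) (h' : IsGood f V) (g : Γ(Y, U)) (e : V = Y.basicOpen g) :
    X.homOfLE (f.preimage_mono (e.le.trans (Y.basicOpen_le g))) ≫ invLoc h2 h = invLoc h2 h' := by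
  have hle := f.preimage_mono (e.le.trans (Y.basicOpen_le g))
  have key : h'.preimage.isoSpec.inv ≫ X.homOfLE hle ≫ h.preimage.isoSpec.hom =
      Spec.map (X.presheaf.map (homOfLE hle).op) := by
    rw [← cancel_mono h.preimage.fromSpec, IsAffineOpen.map_fromSpec h.preimage h'.preimage]
    simp [← IsAffineOpen.isoSpec_inv_ι]
  rw [← cancel_epi h'.preimage.isoSpec.inv]
  simp only [invLoc, Iso.inv_hom_id_assoc]
  rw [reassoc_of% key, ← Spec.map_comp_assoc, invU_res h2 h h' g e, Spec.map_comp, Category.assoc,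
    IsAffineOpen.map_fromSpec h.preimage h'.preimage]

/-- The good neighbourhoods inside two given ones. -/
theorem exists_common {U₁ U₂ : Y.Opens} (h₁ : IsGood f U₁) (h₂ : IsGood f U₂) {y : Y} (hy : y ∈ U₁ ⊓ U₂) :
    ∃ (W : Y.Opens) (_ : IsGood f W) (g₁ : Γ(Y, U₁)) (g₂ : Γ(Y, U₂)),
      y ∈ W ∧ W = Y.basicOpen g₁ ∧ W = Y.basicOpen g₂ := by
  obtain ⟨g₁, g₂, e, hy'⟩ := exists_basicOpen_le_affine_inter h₁.affine h₂.affine y hy
  exact ⟨_, h₁.basicOpen f g₁, g₁, g₂, hy', rfl, e⟩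

theorem exists_good_le (hgood : ∀ y : Y, ∃ W : Y.Opens, y ∈ W ∧ IsGood f W) (U : Y.Opens) {y : Y} (hy : y ∈ U) :
    ∃ W : Y.Opens, y ∈ W ∧ W ≤ U ∧ IsGood f W := by
  obtain ⟨W, hyW, hW⟩ := hgood y
  obtain ⟨g, hg, hyg⟩ := hW.affine.exists_basicOpen_le ⟨y, hy⟩ hyW
  exact ⟨_, hyg, hg, hW.basicOpen f g⟩

variable (hgood : ∀ y : Y, ∃ W : Y.Opens, y ∈ W ∧ IsGood f W)

/-- The cover of `X` by preimages of good opens. -/
noncomputable def cover : X.OpenCover :=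
  X.openCoverOfIsOpenCover (fun W : {W : Y.Opens // IsGood f W} => f ⁻¹ᵁ W.1)
    (eq_top_iff.mpr fun x _ => by
      obtain ⟨W, hxW, hW⟩ := hgood (f x)
      exact Opens.mem_iSup.mpr ⟨⟨W, hW⟩, hxW⟩)

theorem compat (i j : (cover hgood).I₀) :
    pullback.fst ((cover hgood).f i) ((cover hgood).f j) ≫ invLoc h2 i.2 =
      pullback.snd ((cover hgood).f i) ((cover hgood).f j) ≫ invLoc h2 j.2 := by
  let fst : pullback ((cover hgood).f i) ((cover hgood).f j) ⟶ (f ⁻¹ᵁ i.1).toScheme :=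
    pullback.fst ((cover hgood).f i) ((cover hgood).f j)
  let snd : pullback ((cover hgood).f i) ((cover hgood).f j) ⟶ (f ⁻¹ᵁ j.1).toScheme :=
    pullback.snd ((cover hgood).f i) ((cover hgood).f j)
  let p := fst ≫ (f ⁻¹ᵁ i.1).ι
  have hp : snd ≫ (f ⁻¹ᵁ j.1).ι = p := pullback.condition.symm
  refine Scheme.hom_ext_of_forall _ _ fun z => ?_
  have h₁ : f (p z) ∈ i.1 := (fst z).2
  have h₂ : f (p z) ∈ j.1 := by
    rw [← hp]
    exact (snd z).2
  obtain ⟨W, hW, g₁, g₂, hzW, e₁, e₂⟩ := exists_common i.2 j.2 ⟨h₁, h₂⟩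
  refine ⟨p ⁻¹ᵁ (f ⁻¹ᵁ W), hzW, ?_⟩
  show (p ⁻¹ᵁ (f ⁻¹ᵁ W)).ι ≫ fst ≫ invLoc h2 i.2 = (p ⁻¹ᵁ (f ⁻¹ᵁ W)).ι ≫ snd ≫ invLoc h2 j.2
  have k₁ : (p ⁻¹ᵁ (f ⁻¹ᵁ W)).ι ≫ fst =
      (p ∣_ (f ⁻¹ᵁ W)) ≫ X.homOfLE (f.preimage_mono (e₁.le.trans (Y.basicOpen_le g₁))) := by
    refine (cancel_mono (f ⁻¹ᵁ i.1).ι).mp ?_
    rw [Category.assoc, Category.assoc, Scheme.homOfLE_ι, morphismRestrict_ι]
  have k₂ : (p ⁻¹ᵁ (f ⁻¹ᵁ W)).ι ≫ snd =
      (p ∣_ (f ⁻¹ᵁ W)) ≫ X.homOfLE (f.preimage_mono (e₂.le.trans (Y.basicOpen_le g₂))) := by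
    refine (cancel_mono (f ⁻¹ᵁ j.1).ι).mp ?_
    rw [Category.assoc, Category.assoc, Scheme.homOfLE_ι, morphismRestrict_ι]
    exact congrArg (_ ≫ ·) hp
  rw [reassoc_of% k₁, reassoc_of% k₂, homOfLE_invLoc h2 i.2 hW g₁ e₁, homOfLE_invLoc h2 j.2 hW g₂ e₂]

/-- The involution. -/
noncomputable def sigma : X ⟶ X :=
  (cover hgood).glueMorphisms (fun i => invLoc h2 i.2) (compat h2 hgood)

theorem ι_sigma {U : Y.Opens} (h : IsGood f U) : (f ⁻¹ᵁ U).ι ≫ sigma h2 hgood = invLoc h2 h :=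
  (cover hgood).ι_glueMorphisms _ (compat h2 hgood) ⟨U, h⟩

theorem fromSpec_sigma {U : Y.Opens} (h : IsGood f U) :
    h.preimage.fromSpec ≫ sigma h2 hgood = Spec.map (invU h2 h) ≫ h.preimage.fromSpec := by
  rw [← IsAffineOpen.isoSpec_inv_ι, Category.assoc, ι_sigma, invLoc, Iso.inv_hom_id_assoc,
    IsAffineOpen.isoSpec_inv_ι]

theorem sigma_comp : sigma h2 hgood ≫ f = f := by
  refine (cover hgood).hom_ext _ _ fun i => ?_
  have h := i.2
  show (f ⁻¹ᵁ i.1).ι ≫ sigma h2 hgood ≫ f = (f ⁻¹ᵁ i.1).ι ≫ f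
  rw [← cancel_epi h.preimage.isoSpec.inv, IsAffineOpen.isoSpec_inv_ι_assoc, IsAffineOpen.isoSpec_inv_ι_assoc,
    reassoc_of% (fromSpec_sigma h2 hgood h), ← IsAffineOpen.SpecMap_appLE_fromSpec f h.affine h.preimage le_rfl,
    ← Spec.map_comp_assoc, ← Scheme.Hom.app_eq_appLE, app_invU]

theorem sigma_sigma : sigma h2 hgood ≫ sigma h2 hgood = 𝟙 X := by
  refine (cover hgood).hom_ext _ _ fun i => ?_
  have h := i.2
  show (f ⁻¹ᵁ i.1).ι ≫ sigma h2 hgood ≫ sigma h2 hgood = (f ⁻¹ᵁ i.1).ι ≫ 𝟙 X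
  rw [← cancel_epi h.preimage.isoSpec.inv, IsAffineOpen.isoSpec_inv_ι_assoc, IsAffineOpen.isoSpec_inv_ι_assoc,
    reassoc_of% (fromSpec_sigma h2 hgood h), fromSpec_sigma h2 hgood h, ← Spec.map_comp_assoc, invU_invU,
    Spec.map_id, Category.id_comp, Category.comp_id]

theorem appLE_sigma {U : Y.Opens} (h : IsGood f U) (e : f ⁻¹ᵁ U ≤ sigma h2 hgood ⁻¹ᵁ (f ⁻¹ᵁ U)) :
    (sigma h2 hgood).appLE (f ⁻¹ᵁ U) (f ⁻¹ᵁ U) e = invU h2 h := by
  apply Spec.map_injective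
  rw [← cancel_mono h.preimage.fromSpec, IsAffineOpen.SpecMap_appLE_fromSpec _ h.preimage h.preimage,
    fromSpec_sigma]

include hgood in
theorem app_injective' (U : Y.Opens) : Function.Injective (f.app U).hom := by
  intro s t hst
  choose W hyW hWU hW using fun y : U => exists_good_le hgood U y.2
  refine Y.sheaf.eq_of_locally_eq' W U (fun y => homOfLE (hWU y))
    (fun y hy => Opens.mem_iSup.mpr ⟨⟨y, hy⟩, hyW _⟩) s t fun y => app_injective (hW y) ?_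
  have hn := fun z => congrArg (fun q => q.hom z) (f.naturality (homOfLE (hWU y)).op)
  exact (hn s).trans ((congrArg _ hst).trans (hn t).symm)

include hgood in
theorem mem_range_of_invariant {U : Y.Opens} (s : Γ(X, f ⁻¹ᵁ U))
    (e : f ⁻¹ᵁ U ≤ sigma h2 hgood ⁻¹ᵁ (f ⁻¹ᵁ U))
    (hs : (sigma h2 hgood).appLE (f ⁻¹ᵁ U) (f ⁻¹ᵁ U) e s = s) : s ∈ Set.range (f.app U).hom := by
  choose W hyW hWU hW using fun y : U => exists_good_le hgood U y.2
  have hloc : ∀ y : U, ∃ t : Γ(Y, W y),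
      f.app (W y) t = X.presheaf.map (homOfLE (f.preimage_mono (hWU y))).op s := fun y => by
    refine mem_range_of_invU h2 (hW y) ?_
    have e' : f ⁻¹ᵁ W y ≤ sigma h2 hgood ⁻¹ᵁ (f ⁻¹ᵁ W y) := by
      rw [← Scheme.Hom.comp_preimage, sigma_comp]
    rw [← appLE_sigma h2 hgood (hW y) e', ← CommRingCat.comp_apply, Scheme.Hom.map_appLE]
    conv_rhs => rw [← hs, ← CommRingCat.comp_apply, Scheme.Hom.appLE_map]
  choose t ht using hloc
  have hcompat : TopCat.Presheaf.IsCompatible Y.sheaf.obj W t := fun i j => by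
    refine app_injective' hgood (W i ⊓ W j) ?_
    have h₁ := congrArg (fun q => q.hom (t i)) (f.naturality (homOfLE (inf_le_left : W i ⊓ W j ≤ W i)).op)
    have h₂ := congrArg (fun q => q.hom (t j)) (f.naturality (homOfLE (inf_le_right : W i ⊓ W j ≤ W j)).op)
    refine h₁.trans (Eq.trans ?_ h₂.symm)
    show X.presheaf.map _ (f.app (W i) (t i)) = X.presheaf.map _ (f.app (W j) (t j))
    rw [ht i, ht j, ← CommRingCat.comp_apply, ← CommRingCat.comp_apply, ← Functor.map_comp, ← Functor.map_comp]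
    rfl
  obtain ⟨T, hT, -⟩ := Y.sheaf.existsUnique_gluing' W U (fun y => homOfLE (hWU y))
    (fun y hy => Opens.mem_iSup.mpr ⟨⟨y, hy⟩, hyW _⟩) t hcompat
  refine ⟨T, X.sheaf.eq_of_locally_eq' (fun y => f ⁻¹ᵁ W y) (f ⁻¹ᵁ U)
    (fun y => homOfLE (f.preimage_mono (hWU y))) (fun x hx => Opens.mem_iSup.mpr ⟨⟨f x, hx⟩, hyW _⟩) _ _
    fun y => ?_⟩
  have hn := congrArg (fun q => q.hom T) (f.naturality (homOfLE (hWU y)).op)
  refine hn.symm.trans ?_
  show f.app (W y) (Y.presheaf.map _ T) = _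
  rw [show Y.presheaf.map (homOfLE (hWU y)).op T = t y from hT y]
  exact ht y

end Groth.Agent.MiscTwoH99.DblCover
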