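import Groth.Agent.MiscTwoH99.DblCover.Alg
import Mathlib.AlgebraicGeometry.Morphisms.FlatRank
import Mathlib.RingTheory.Localization.Free
import Mathlib.RingTheory.Spectrum.Prime.FreeLocus

/-! # Affine opens over which a double cover is free, and the involution there -/

set_option autoImplicit false

universe u

open CategoryTheory CategoryTheory.Limits AlgebraicGeometry Opposite TopologicalSpace

namespace Groth.Agent.MiscTwoH99.DblCover

variable {X Y : Scheme.{u}} (f : X ⟶ Y)

/-- The algebra over an open of the base. -/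
@[reducible] noncomputable def appAlg (U : Y.Opens) : Algebra Γ(Y, U) Γ(X, f ⁻¹ᵁ U) := (f.app U).hom.toAlgebra

/-- An affine open over which the cover is free of rank two. -/
structure IsGood (U : Y.Opens) : Prop where
  affine : IsAffineOpen U
  free : letI := appAlg f U
    Nonempty (Module.Basis (Fin 2) Γ(Y, U) Γ(X, f ⁻¹ᵁ U))

section Basic

variable [IsAffineHom f] {U : Y.Opens} (hU : IsAffineOpen U) (g : Γ(Y, U))

theorem preimage_basicOpen_le : f ⁻¹ᵁ Y.basicOpen g ≤ f ⁻¹ᵁ U := f.preimage_mono (Y.basicOpen_le g)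

/-- Restriction of the base. -/
@[reducible] noncomputable def resBase : Algebra Γ(Y, U) Γ(Y, Y.basicOpen g) :=
  (Y.presheaf.map (homOfLE (Y.basicOpen_le g)).op).hom.toAlgebra

/-- Restriction of the cover. -/
@[reducible] noncomputable def resTop : Algebra Γ(X, f ⁻¹ᵁ U) Γ(X, f ⁻¹ᵁ Y.basicOpen g) :=
  (X.presheaf.map (homOfLE (preimage_basicOpen_le f g)).op).hom.toAlgebra

/-- The diagonal. -/
@[reducible] noncomputable def resDiag : Algebra Γ(Y, U) Γ(X, f ⁻¹ᵁ Y.basicOpen g) :=
  ((f.app (Y.basicOpen g)).hom.comp (Y.presheaf.map (homOfLE (Y.basicOpen_le g)).op).hom).toAlgebra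

theorem tower₁ : letI := resBase g; letI := resDiag f g; letI := appAlg f (Y.basicOpen g)
    IsScalarTower Γ(Y, U) Γ(Y, Y.basicOpen g) Γ(X, f ⁻¹ᵁ Y.basicOpen g) :=
  letI := resBase g; letI := resDiag f g; letI := appAlg f (Y.basicOpen g)
  IsScalarTower.of_algebraMap_eq fun _ => rfl

theorem tower₂ : letI := appAlg f U; letI := resDiag f g; letI := resTop f g
    IsScalarTower Γ(Y, U) Γ(X, f ⁻¹ᵁ U) Γ(X, f ⁻¹ᵁ Y.basicOpen g) :=
  letI := appAlg f U; letI := resDiag f g; letI := resTop f g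
  IsScalarTower.of_algebraMap_eq fun x =>
    congrArg (fun q => q.hom x) (f.naturality (homOfLE (Y.basicOpen_le g)).op)

include hU in
theorem isLocalization_top : letI := appAlg f U; letI := resTop f g
    IsLocalization (Algebra.algebraMapSubmonoid Γ(X, f ⁻¹ᵁ U) (Submonoid.powers g)) Γ(X, f ⁻¹ᵁ Y.basicOpen g) := by
  letI := appAlg f U
  letI := resTop f g
  rw [Algebra.algebraMapSubmonoid, Submonoid.map_powers]
  exact (hU.preimage f).isLocalization_of_eq_basicOpen _ _ (Scheme.preimage_basicOpen f g)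

include hU in
theorem isLocalization_base : letI := resBase g; IsLocalization.Away g Γ(Y, Y.basicOpen g) :=
  hU.isLocalization_of_eq_basicOpen _ _ rfl

theorem IsGood.basicOpen (h : IsGood f U) : IsGood f (Y.basicOpen g) := by
  refine ⟨h.affine.basicOpen g, ?_⟩
  letI := appAlg f U; letI := resBase g; letI := resDiag f g; letI := resTop f g
  letI := appAlg f (Y.basicOpen g)
  haveI := tower₁ f g
  haveI := tower₂ f g
  haveI := isLocalization_base h.affine g
  haveI := isLocalization_top f h.affine g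
  obtain ⟨b⟩ := h.free
  exact ⟨b.localizationLocalization Γ(Y, Y.basicOpen g) (Submonoid.powers g) Γ(X, f ⁻¹ᵁ Y.basicOpen g)⟩

end Basic

section Involution

variable (h2 : IsUnit (2 : Γ(Y, ⊤)))

include h2 in
theorem isUnit_two (U : Y.Opens) : IsUnit (2 : Γ(Y, U)) := by
  have h := h2.map (Y.presheaf.map (homOfLE (le_top : U ≤ ⊤)).op).hom
  rwa [map_ofNat] at h

variable {f}

/-- The involution over a good open. -/
noncomputable def invU {U : Y.Opens} (h : IsGood f U) : Γ(X, f ⁻¹ᵁ U) ⟶ Γ(X, f ⁻¹ᵁ U) :=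
  letI := appAlg f U
  CommRingCat.ofHom (invol (isUnit_two h2 U) h.free.some)

theorem app_invU {U : Y.Opens} (h : IsGood f U) : f.app U ≫ invU h2 h = f.app U := by
  letI := appAlg f U
  exact CommRingCat.hom_ext (RingHom.ext fun a => invol_algebraMap (isUnit_two h2 U) h.free.some a)

theorem invU_invU {U : Y.Opens} (h : IsGood f U) : invU h2 h ≫ invU h2 h = 𝟙 _ := by
  letI := appAlg f U
  exact CommRingCat.hom_ext (RingHom.ext fun a => invol_invol (isUnit_two h2 U) h.free.some a)

include h2 in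
theorem mem_range_of_invU {U : Y.Opens} (h : IsGood f U) {s : Γ(X, f ⁻¹ᵁ U)} (hs : invU h2 h s = s) :
    s ∈ Set.range (f.app U).hom := by
  letI := appAlg f U
  exact mem_range_of_fixed (isUnit_two h2 U) h.free.some hs

theorem app_injective {U : Y.Opens} (h : IsGood f U) : Function.Injective (f.app U).hom := by
  letI := appAlg f U
  exact algebraMap_injective h.free.some

theorem invU_res [IsAffineHom f] {U V : Y.Opens} (h : IsGood f U) (h' : IsGood f V) (g : Γ(Y, U))
    (e : V = Y.basicOpen g) :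
    invU h2 h ≫ X.presheaf.map (homOfLE (f.preimage_mono (e.le.trans (Y.basicOpen_le g)))).op =
      X.presheaf.map (homOfLE (f.preimage_mono (e.le.trans (Y.basicOpen_le g)))).op ≫ invU h2 h' := by
  subst e
  letI := appAlg f U; letI := resBase g; letI := resDiag f g; letI := resTop f g
  letI := appAlg f (Y.basicOpen g)
  haveI := tower₁ f g
  haveI := tower₂ f g
  haveI := isLocalization_base h.affine g
  haveI := isLocalization_top f h.affine g
  exact CommRingCat.hom_ext (RingHom.ext fun x =>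
    (invol_localization (isUnit_two h2 U) h.free.some (Submonoid.powers g) (isUnit_two h2 _) h'.free.some x).symm)

end Involution

section Exists

variable [IsFinite f] [Flat f] [LocallyOfFinitePresentation f]

theorem finrank_fromSpec {U : Y.Opens} (hU : IsAffineOpen U) (p : Spec Γ(Y, U)) :
    f.finrank (hU.fromSpec p) = (f.app U).hom.finrank p := by
  have hV : IsAffineOpen (f ⁻¹ᵁ U) := hU.preimage f
  have H : hV.fromSpec ≫ f = Spec.map (f.app U) ≫ hU.fromSpec := by
    rw [← IsAffineOpen.SpecMap_appLE_fromSpec f hU hV le_rfl, Scheme.Hom.app_eq_appLE]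
  have hpb := IsOpenImmersion.isPullback (Spec.map (f.app U)) hV.fromSpec hU.fromSpec f H
    (by rw [hU.opensRange_fromSpec, hV.opensRange_fromSpec])
  have hfl : (f.app U).hom.Flat := by
    rw [Scheme.Hom.app_eq_appLE]
    exact f.flat_appLE hU hV le_rfl
  rw [← Scheme.Hom.finrank_of_isPullback _ _ f _ hpb.flip p,
    Scheme.Hom.finrank_SpecMap_eq_finrank (f.finite_app U hU) hfl]

attribute [local instance] RingHomInvPair.of_ringEquiv in
theorem exists_good (hrk : ∀ y : Y, f.finrank y = 2) (y : Y) : ∃ W : Y.Opens, y ∈ W ∧ IsGood f W := by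
  obtain ⟨U, hU, hyU, -⟩ := exists_isAffineOpen_mem_and_subset (x := y) (U := ⊤) trivial
  letI := appAlg f U
  have hV : IsAffineOpen (f ⁻¹ᵁ U) := hU.preimage f
  haveI : Module.Finite Γ(Y, U) Γ(X, f ⁻¹ᵁ U) := f.finite_app U hU
  haveI : Module.Flat Γ(Y, U) Γ(X, f ⁻¹ᵁ U) := by
    have h := f.flat_appLE hU hV le_rfl
    rw [← Scheme.Hom.app_eq_appLE] at h
    exact h
  haveI : Algebra.FinitePresentation Γ(Y, U) Γ(X, f ⁻¹ᵁ U) := by
    have h := f.finitePresentation_appLE hU hV le_rfl
    rw [← Scheme.Hom.app_eq_appLE] at h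
    exact h
  haveI := Module.FinitePresentation.of_finite_of_finitePresentation (R := Γ(Y, U)) (S := Γ(X, f ⁻¹ᵁ U))
  let x := hU.primeIdealOf ⟨y, hyU⟩
  haveI : Module.Free (Localization.AtPrime x.asIdeal)
      (LocalizedModule x.asIdeal.primeCompl Γ(X, f ⁻¹ᵁ U)) := Module.free_of_flat_of_isLocalRing
  obtain ⟨g, hg, hfree, -⟩ := Module.FinitePresentation.exists_free_localizedModule_powers
    x.asIdeal.primeCompl (LocalizedModule.mkLinearMap x.asIdeal.primeCompl Γ(X, f ⁻¹ᵁ U))
    (Localization.AtPrime x.asIdeal)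
  have hyW : y ∈ Y.basicOpen g := by
    have h : x ∈ hU.fromSpec ⁻¹ᵁ Y.basicOpen g := by
      rw [hU.fromSpec_preimage_basicOpen]
      exact hg
    have e : hU.fromSpec x = y := hU.fromSpec_primeIdealOf ⟨y, hyU⟩
    exact e ▸ h
  refine ⟨Y.basicOpen g, hyW, hU.basicOpen g, ?_⟩
  letI := resBase g; letI := resDiag f g; letI := resTop f g
  letI := appAlg f (Y.basicOpen g)
  haveI := tower₁ f g
  haveI := tower₂ f g
  haveI := isLocalization_base hU g
  haveI := isLocalization_top f hU g
  let l : Γ(X, f ⁻¹ᵁ U) →ₗ[Γ(Y, U)] Γ(X, f ⁻¹ᵁ Y.basicOpen g) :=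
    (IsScalarTower.toAlgHom Γ(Y, U) Γ(X, f ⁻¹ᵁ U) Γ(X, f ⁻¹ᵁ Y.basicOpen g)).toLinearMap
  haveI : IsLocalizedModule (Submonoid.powers g) l := isLocalizedModule_iff_isLocalization.mpr inferInstance
  haveI : Module.Free Γ(Y, Y.basicOpen g) Γ(X, f ⁻¹ᵁ Y.basicOpen g) := by
    let e := (IsLocalization.algEquiv (Submonoid.powers g) (Localization (Submonoid.powers g))
      Γ(Y, Y.basicOpen g)).toRingEquiv
    refine (Module.Free.iff_of_equiv (σ := e) (M' := Γ(X, f ⁻¹ᵁ Y.basicOpen g))
      { __ := IsLocalizedModule.iso (Submonoid.powers g) l, map_smul' := ?_ }).mp hfree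
    intro r z
    obtain ⟨r, s, rfl⟩ := IsLocalization.exists_mk'_eq (Submonoid.powers g) r
    apply ((Module.End.isUnit_iff _).mp (IsLocalizedModule.map_units l s)).1
    simp [e, ← map_smul, ← smul_assoc]
  haveI : Module.Finite Γ(Y, Y.basicOpen g) Γ(X, f ⁻¹ᵁ Y.basicOpen g) := f.finite_app _ (hU.basicOpen g)
  haveI : Nontrivial Γ(Y, Y.basicOpen g) := ((hU.basicOpen g).primeIdealOf ⟨y, hyW⟩).nontrivial
  refine ⟨Module.finBasisOfFinrankEq _ _ ?_⟩
  have h := finrank_fromSpec f (hU.basicOpen g) ((hU.basicOpen g).primeIdealOf ⟨y, hyW⟩)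
  rw [hrk, show (f.app (Y.basicOpen g)).hom = algebraMap Γ(Y, Y.basicOpen g) Γ(X, f ⁻¹ᵁ Y.basicOpen g) from rfl,
    RingHom.finrank_algebraMap, Module.rankAtStalk_eq_finrank_of_free] at h
  exact h.symm

end Exists

end Groth.Agent.MiscTwoH99.DblCover
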